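import Groth.Agent.ShriekDual7.Tilde
import Groth.Agent.ShriekIndep7.Restrict
import Groth.Agent.DualCover7.Main
import Groth.Agent.S1766

/-!
# `i^!` of a dualizing complex for a closed immersion
-/

set_option linter.style.haveILetI false
set_option backward.isDefEq.respectTransparency false
set_option backward.isDefEq.respectTransparency.types false
set_option maxHeartbeats 2000000

universe u

open CategoryTheory CategoryTheory.Limits AlgebraicGeometry

attribute [local instance] HasDerivedCategory.standard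

namespace Groth.Agent.ShriekDual7

open Groth.Agent.KFlatLib Groth.Agent.PerfGen7

variable [∀ (R : CommRingCat.{u}), PreservesFiniteLimits (tilde.functor R)]

/-- `i^!` keeps dualizing complexes. -/
theorem isDualizingSch_closed {Z P : Scheme.{u}} [IsNoetherian P] (i : Z ⟶ P) [IsClosedImmersion i]
    [∀ (U : Scheme.{u}) (j : U ⟶ P) [IsOpenImmersion j], PreservesFiniteLimits (Scheme.Modules.restrictFunctor j)]
    [∀ (U : Scheme.{u}) (j : U ⟶ Z) [IsOpenImmersion j], PreservesFiniteLimits (Scheme.Modules.restrictFunctor j)]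
    [DCoh.HasRpush i] (hi : DCoh.RpushPreservesQCoh i) {a : DCoh.DQCoh P ⥤ DCoh.DQCoh Z}
    (adj : DCoh.RpushQ i hi ⊣ a) (K : DCoh.DQCoh P) (b : ℤ) [K.obj.IsGE b]
    (hK : Dual2.IsDualizingSch P K.obj) : Dual2.IsDualizingSch Z (a.obj K).obj := by
  haveI : IsLocallyNoetherian Z := LocallyOfFiniteType.isLocallyNoetherian i
  have h : ∀ z : Z, ∃ (B : Type u) (_ : CommRing B) (j : Spec (CommRingCat.of B) ⟶ Z) (_ : IsOpenImmersion j),
      z ∈ Set.range j ∧ ∃ ω : Dual.D B, Dual.IsDualizing B ω ∧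
        Nonempty ((rho j).obj (a.obj K).obj ≅ (DCoh.tildeD (CommRingCat.of B)).obj ω) := fun z => by
    obtain ⟨W, hW, hzW⟩ : ∃ W : P.Opens, IsAffineOpen W ∧ i z ∈ W := by
      obtain ⟨_, ⟨W, hW, rfl⟩, hzW, -⟩ :=
        P.isBasis_affineOpens.exists_subset_of_mem_open (Set.mem_univ (i z)) isOpen_univ
      exact ⟨W, hW, hzW⟩
    have hW' : IsAffineOpen (i ⁻¹ᵁ W) := hW.preimage i
    haveI : IsNoetherianRing Γ(P, W) := IsLocallyNoetherian.component_noetherian ⟨W, hW⟩
    haveI : IsNoetherianRing Γ(Z, i ⁻¹ᵁ W) := IsLocallyNoetherian.component_noetherian ⟨_, hW'⟩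
    let φ : Γ(P, W) →+* Γ(Z, i ⁻¹ᵁ W) := (i.app W).hom
    have hφ : Function.Surjective φ := i.app_surjective W hW
    let q := Spec.map (CommRingCat.ofHom φ)
    haveI : IsClosedImmersion q := IsClosedImmersion.spec_of_surjective _ hφ
    haveI := hasRpush_scheme q
    have hq : DCoh.RpushPreservesQCoh q := fun K hK => KFlatLib.isQCohD_rpush q hK
    haveI : (DCoh.RpushQ q hq).IsLeftAdjoint := Groth.Agent.S1766.result _ _ q hq
    let adjq := Adjunction.ofIsLeftAdjoint (DCoh.RpushQ q hq)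
    obtain ⟨ω, hω, ⟨e⟩⟩ := hK Γ(P, W) hW.fromSpec
    obtain ⟨ω', hω', ⟨e'⟩⟩ := exists_dualizing_tilde φ hφ hq adjq hω
    have w : hW'.fromSpec ≫ i = q ≫ hW.fromSpec := by
      have := (IsAffineOpen.SpecMap_appLE_fromSpec i hW hW' le_rfl).symm
      rw [← Scheme.Hom.app_eq_appLE] at this
      exact this
    obtain ⟨r⟩ := ShriekIndep7.nonempty_rightAdjoint_restrict i hi adj hW.fromSpec hW'.fromSpec
      (by rw [IsAffineOpen.range_fromSpec, IsAffineOpen.range_fromSpec]; rfl) q w hq adjq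
    refine ⟨_, inferInstance, hW'.fromSpec, inferInstance, by rw [IsAffineOpen.range_fromSpec]; exact hzW,
      ω', hω', ⟨r.app ⟨K, b, inferInstance⟩ ≪≫ (ObjectProperty.ι _).mapIso
        ((DCoh.RpushQ q hq).rightAdjoint.mapIso ((ObjectProperty.isoMk _ e : (ShriekSupp7.restrictQ hW.fromSpec).obj K ≅
          (tildeDQ (CommRingCat.of Γ(P, W))).obj ω))) ≪≫ e'⟩⟩
  choose B hB j hj hz hω using h
  exact DualCover7.isDualizingSch_of_cover (a.obj K).obj Z (fun z => B z) (fun z => j z)
    (fun z => ⟨z, hz z⟩) hω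

end Groth.Agent.ShriekDual7
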