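import Groth.Agent.ShriekDual7.Pn
import Groth.Agent.ShriekDual7.Closed
import Groth.Agent.ShriekCoh7.Local

/-!
# `f^!` keeps dualizing complexes for proper `f`
-/

set_option linter.style.haveILetI false
set_option backward.isDefEq.respectTransparency false
set_option backward.isDefEq.respectTransparency.types false
set_option maxHeartbeats 4000000

universe u

open CategoryTheory CategoryTheory.Limits AlgebraicGeometry

attribute [local instance] HasDerivedCategory.standard

namespace Groth.Agent.ShriekDual7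

open Groth.Agent.KFlatLib Groth.Agent.PerfGen7

variable [∀ (R : CommRingCat.{u}), PreservesFiniteLimits (tilde.functor R)]
  [∀ (U V : Scheme.{u}) (j : U ⟶ V) [IsOpenImmersion j], PreservesFiniteLimits (Scheme.Modules.restrictFunctor j)]

/-- Near every point of an affine base situation `a(K)` is the tilde of a dualizing complex. -/
theorem exists_chart_affine {A : Type u} [CommRing A] [IsNoetherianRing A] {X : Scheme.{u}}
    (f : X ⟶ Spec (CommRingCat.of A)) [IsProper f] [DCoh.HasRpush f] (hf : DCoh.RpushPreservesQCoh f)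
    {a : DCoh.DQCoh (Spec (CommRingCat.of A)) ⥤ DCoh.DQCoh X} (adj : DCoh.RpushQ f hf ⊣ a)
    (U : X.Opens) (hU : IsAffineOpen U) (K : DCoh.DQCoh (Spec (CommRingCat.of A))) (b : ℤ)
    [K.obj.IsGE b] (hK : Dual2.IsDualizingSch _ K.obj) :
    Dual2.IsDualizingSch (U : Scheme.{u}) ((rho U.ι).obj (a.obj K).obj) := by
  let Y := Spec (CommRingCat.of A)
  haveI : IsNoetherianRing (CommRingCat.of A) := ‹_›
  haveI : IsAffine (U : Scheme.{u}) := hU
  obtain ⟨n, p, hp, hpr⟩ := ChowX.exists_immersion_affine (U.ι ≫ f)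
  let π := CohB1.ProjSpace.toSpec n A
  let P := CohB1.ProjSpace n A
  let hpb : IsPullback (ProjX.pmap n (ProjX.zto A)) π (CohB1.ProjSpace.toSpec n (ULift.{u} ℤ))
      (specULiftZIsTerminal.from Y) := by
    rw [specULiftZIsTerminal.hom_ext (specULiftZIsTerminal.from Y)
      (Spec.map (CommRingCat.ofHom (ProjX.zto A)))]
    exact ProjX.isPullback_pmap n (ProjX.zto A)
  let e : P ≅ CohB1.ProjSpaceOver n Y := hpb.isoPullback
  have he : e.inv ≫ π = CohB1.ProjSpaceOver.toBase n Y := hpb.isoPullback_inv_snd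
  let m : (U : Scheme.{u}) ⟶ P := p ≫ e.inv
  have hm : m ≫ π = U.ι ≫ f := by rw [Category.assoc, he, hpr]
  haveI : IsProper π := PnCoh.Chow.isProper_toSpec n A
  haveI : IsLocallyNoetherian P := LocallyOfFiniteType.isLocallyNoetherian π
  haveI : CompactSpace P := QuasiCompact.compactSpace_of_compactSpace π
  haveI : IsNoetherian P := {}
  haveI : IsImmersion m := inferInstance
  haveI : QuasiCompact m := inferInstance
  let i := m.imageι
  let q := i ≫ π
  haveI : IsProper q := inferInstance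
  haveI : IsLocallyNoetherian m.image := LocallyOfFiniteType.isLocallyNoetherian i
  haveI : CompactSpace m.image := QuasiCompact.compactSpace_of_compactSpace i
  haveI : IsNoetherian m.image := {}
  haveI := hasRpush_scheme π
  haveI := hasRpush_scheme i
  haveI := hasRpush_scheme q
  have hπ : DCoh.RpushPreservesQCoh π := fun K hK => KFlatLib.isQCohD_rpush π hK
  have hi : DCoh.RpushPreservesQCoh i := fun K hK => KFlatLib.isQCohD_rpush i hK
  have hq : DCoh.RpushPreservesQCoh q := fun K hK => KFlatLib.isQCohD_rpush q hK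
  haveI : (DCoh.RpushQ π hπ).IsLeftAdjoint := Groth.Agent.S1766.result _ _ π hπ
  haveI : (DCoh.RpushQ i hi).IsLeftAdjoint := Groth.Agent.S1766.result _ _ i hi
  let adjπ := Adjunction.ofIsLeftAdjoint (DCoh.RpushQ π hπ)
  let adji := Adjunction.ofIsLeftAdjoint (DCoh.RpushQ i hi)
  let aπ := (DCoh.RpushQ π hπ).rightAdjoint
  let ai := (DCoh.RpushQ i hi).rightAdjoint
  obtain ⟨c⟩ : Nonempty (DCoh.RpushQ i hi ⋙ DCoh.RpushQ π hπ ≅ DCoh.RpushQ q hq) := by
    obtain ⟨c⟩ := nonempty_rpush_comp i π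
    exact ⟨NatIso.ofComponents (fun K => ObjectProperty.isoMk _ (c.app K.obj))
      fun g => ObjectProperty.hom_ext _ (c.hom.naturality g.hom)⟩
  let adjq : DCoh.RpushQ q hq ⊣ aπ ⋙ ai := (adji.comp adjπ).ofNatIsoLeft c
  obtain ⟨θ⟩ := ShriekIndep7.nonempty_shriek_indep f hf adj q hq adjq U.ι m.toImage
    (by rw [← Category.assoc, Scheme.Hom.toImage_imageι, hm])
  have h1 : Dual2.IsDualizingSch P (aπ.obj K).obj := isDualizingSch_rightAdjoint_Pn n A hπ adjπ K hK
  obtain ⟨b₁, hb₁⟩ := exists_isGE h1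
  haveI : (aπ.obj K).obj.IsGE b₁ := hb₁
  have h2 : Dual2.IsDualizingSch m.image (ai.obj (aπ.obj K)).obj :=
    isDualizingSch_closed i hi adji (aπ.obj K) b₁ h1
  intro B _ j _
  obtain ⟨ω, hω, ⟨eω⟩⟩ := h2 B (j ≫ m.toImage)
  exact ⟨ω, hω, ⟨(rho j).mapIso (θ.app ⟨K, b, inferInstance⟩) ≪≫
    rhoComp j m.toImage _ rfl _ ≪≫ eω⟩⟩

/-- `a(K)` is dualizing for `f` proper, `Y` Noetherian and `K` dualizing. -/
theorem isDualizingSch_rightAdjoint {X Y : Scheme.{u}} [IsNoetherian Y] (f : X ⟶ Y) [IsProper f]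
    [DCoh.HasRpush f] (hf : DCoh.RpushPreservesQCoh f) {a : DCoh.DQCoh Y ⥤ DCoh.DQCoh X}
    (adj : DCoh.RpushQ f hf ⊣ a) (K : DCoh.DQCoh Y) (hK : Dual2.IsDualizingSch Y K.obj) :
    Dual2.IsDualizingSch X (a.obj K).obj := by
  haveI : IsLocallyNoetherian X := LocallyOfFiniteType.isLocallyNoetherian f
  obtain ⟨b, hb⟩ := exists_isGE hK
  haveI : K.obj.IsGE b := hb
  have h : ∀ x : X, ∃ (B : Type u) (_ : CommRing B) (j : Spec (CommRingCat.of B) ⟶ X) (_ : IsOpenImmersion j),
      x ∈ Set.range j ∧ ∃ ω : Dual.D B, Dual.IsDualizing B ω ∧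
        Nonempty ((rho j).obj (a.obj K).obj ≅ (DCoh.tildeD (CommRingCat.of B)).obj ω) := fun x => by
    obtain ⟨W, hW, hxW⟩ : ∃ W : Y.Opens, IsAffineOpen W ∧ f x ∈ W := by
      obtain ⟨_, ⟨W, hW, rfl⟩, hxW, -⟩ :=
        Y.isBasis_affineOpens.exists_subset_of_mem_open (Set.mem_univ (f x)) isOpen_univ
      exact ⟨W, hW, hxW⟩
    haveI : IsNoetherianRing Γ(Y, W) := IsLocallyNoetherian.component_noetherian ⟨W, hW⟩
    let i := hW.fromSpec
    let Q := Limits.pullback f i
    let k := Limits.pullback.fst f i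
    let q := Limits.pullback.snd f i
    haveI : IsProper q := MorphismProperty.pullback_snd _ _ inferInstance
    have hk : Set.range k.base = f.base ⁻¹' Set.range i.base := IsOpenImmersion.range_pullbackFst i f
    haveI := hasRpush_scheme q
    have hq : DCoh.RpushPreservesQCoh q := fun K hK => KFlatLib.isQCohD_rpush q hK
    haveI : IsLocallyNoetherian Q := isLocallyNoetherian_of_isOpenImmersion k
    haveI : CompactSpace Q := QuasiCompact.compactSpace_of_compactSpace q
    haveI : IsNoetherian Q := {}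
    haveI : (DCoh.RpushQ q hq).IsLeftAdjoint := Groth.Agent.S1766.result _ _ q hq
    let adjq := Adjunction.ofIsLeftAdjoint (DCoh.RpushQ q hq)
    obtain ⟨r⟩ := ShriekIndep7.nonempty_rightAdjoint_restrict f hf adj i k hk q
      Limits.pullback.condition hq adjq
    let K' := (ShriekSupp7.restrictQ i).obj K
    haveI : K'.obj.IsGE b := (DerivedCategory.isGE_iff _ _).2 fun l hl =>
      (Functor.map_isZero (Scheme.Modules.restrictFunctor i)
        (DerivedCategory.isZero_of_isGE K.obj b l hl)).of_iso (restrictHDIso i K.obj l)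
    have hK' : Dual2.IsDualizingSch _ K'.obj := by
      intro B _ j _
      obtain ⟨ω, hω, ⟨eω⟩⟩ := hK B (j ≫ i)
      exact ⟨ω, hω, ⟨rhoComp j i _ rfl K.obj ≪≫ eω⟩⟩
    have hxk : x ∈ Set.range k.base := by rw [hk, hW.range_fromSpec]; exact hxW
    obtain ⟨z, rfl⟩ := hxk
    obtain ⟨U, hU, hzU⟩ : ∃ U : Q.Opens, IsAffineOpen U ∧ z ∈ U := by
      obtain ⟨_, ⟨U, hU, rfl⟩, hzU, -⟩ :=
        Q.isBasis_affineOpens.exists_subset_of_mem_open (Set.mem_univ z) isOpen_univ
      exact ⟨U, hU, hzU⟩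
    haveI : IsAffine (U : Scheme.{u}) := hU
    let l := (U : Scheme.{u}).isoSpec.inv
    obtain ⟨ω, hω, ⟨eω⟩⟩ := exists_chart_affine q hq adjq U hU K' b hK' Γ((U : Scheme.{u}), ⊤) l
    obtain ⟨p, hp⟩ := l.surjective (⟨z, hzU⟩ : U)
    refine ⟨_, inferInstance, (l ≫ U.ι) ≫ k, inferInstance,
      ⟨p, ?_⟩, ω, hω, ⟨?_⟩⟩
    · show k (U.ι (l p)) = k z
      rw [hp]
      rfl
    · exact (rhoComp (l ≫ U.ι) k _ rfl _).symm ≪≫ (rho (l ≫ U.ι)).mapIso (r.app ⟨K, b, inferInstance⟩) ≪≫
        (rhoComp l U.ι _ rfl _).symm ≪≫ eω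
  choose B hB j hj hz hω using h
  exact DualCover7.isDualizingSch_of_cover (a.obj K).obj X (fun z => B z) (fun z => j z)
    (fun z => ⟨z, hz z⟩) hω

end Groth.Agent.ShriekDual7
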