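import Groth.Agent.RHomO7.DualizingModel
import Groth.Agent.PerfGen7.Supp

/-!
# Dualizing complexes on Noetherian schemes are bounded below
-/

set_option linter.style.haveILetI false
set_option backward.isDefEq.respectTransparency false
set_option backward.isDefEq.respectTransparency.types false

universe u

open CategoryTheory CategoryTheory.Limits AlgebraicGeometry

attribute [local instance] HasDerivedCategory.standard

namespace Groth.Agent.ShriekDual7

open Groth.Agent.KFlatLib Groth.Agent.PerfGen7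

variable {X : Scheme.{u}} [IsNoetherian X]
  [∀ (U : Scheme.{u}) (j : U ⟶ X) [IsOpenImmersion j], PreservesFiniteLimits (Scheme.Modules.restrictFunctor j)]
  [∀ (R : CommRingCat.{u}), PreservesFiniteLimits (tilde.functor R)]

/-- A dualizing complex on a Noetherian scheme is bounded below. -/
theorem exists_isGE {K : DCoh.D X} (hK : Dual2.IsDualizingSch X K) : ∃ n : ℤ, K.IsGE n := by
  have h : ∀ x : X, ∃ (V : X.Opens) (a : ℤ), x ∈ V ∧
      ∀ y ∈ V, ∀ q, q < a → IsZero ((DerSch.stalkFunctor X y).obj (DCoh.HD K q)) := fun x => by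
    obtain ⟨S, hS, j, hj, ω, hx, hω, ⟨e⟩⟩ := RHomO7.DualizingModel.exists_chart_dualizing hK x
    haveI := hS
    obtain ⟨J', a, b, -, ha, -, ⟨eω⟩⟩ := RHomO7.DualizingModel.exists_model hω
    haveI := ha
    haveI : (DerivedCategory.Q.obj J').IsGE a := (DerivedCategory.isGE_Q_obj_iff J' a).2 inferInstance
    refine ⟨j.opensRange, a, hx, ?_⟩
    rintro _ ⟨u, rfl⟩ q hq
    refine (isZero_stalk_rho_iff j K u q).1 (Functor.map_isZero (DerSch.stalkFunctor (Spec S) u) ?_)
    exact ((DerivedCategory.Q.obj J').isZero_of_isGE a q hq).of_iso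
      ((DerivedCategory.homologyFunctor _ q).mapIso (e ≪≫ eω))
  choose V a hx hV using h
  obtain ⟨t, ht⟩ := isCompact_univ.elim_finite_subcover (fun x => (V x : Set X)) (fun x => (V x).isOpen)
    fun x _ => Set.mem_iUnion.2 ⟨x, hx x⟩
  obtain ⟨n, hn⟩ : ∃ n : ℤ, ∀ x ∈ t, n ≤ a x := (t.finite_toSet.image a).bddBelow.imp fun n hn x hx' =>
    hn ⟨x, hx', rfl⟩
  refine ⟨n, (DerivedCategory.isGE_iff _ _).2 fun q hq => isZero_of_stalk _ fun y => ?_⟩
  obtain ⟨x, hxt, hy⟩ := Set.mem_iUnion₂.1 (ht (Set.mem_univ y))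
  exact hV x y hy q (by have := hn x hxt; omega)

end Groth.Agent.ShriekDual7
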