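import Groth.Agent.ShriekCoh7.Pn
import Groth.Agent.ShriekDual7.Bound
import Groth.Agent.Dual3Gor7.Lpull
import Groth.Agent.Dual3Gor7.Dualizing
import Groth.Agent.DualCover7.Main
import Groth.Agent.PnSmooth7.Main
import Groth.Agent.KRegLib.Pres
import Groth.Agent.KFlatLib.Ring.InvertibleTwist

/-!
# `π^!` of a dualizing complex for projective space
-/

set_option linter.style.haveILetI false
set_option backward.isDefEq.respectTransparency false
set_option backward.isDefEq.respectTransparency.types false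
set_option maxHeartbeats 2000000

universe u

open CategoryTheory CategoryTheory.Limits AlgebraicGeometry

attribute [local instance] HasDerivedCategory.standard

namespace Groth.Agent.ShriekDual7

open Groth.Agent.KFlatLib Groth.Agent.PerfGen7

variable {X Y : Scheme.{u}}

/-- A smooth morphism is a local complete intersection morphism. -/
theorem isLCIMor_of_smooth (f : X ⟶ Y) [Smooth f] : Dual3.IsLCIMor f := fun x => by
  obtain ⟨_, ⟨V, hV, rfl⟩, hxV, -⟩ :=
    Y.isBasis_affineOpens.exists_subset_of_mem_open (Set.mem_univ (f x)) isOpen_univ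
  obtain ⟨_, ⟨U, hU, rfl⟩, hxU, hUV⟩ :=
    X.isBasis_affineOpens.exists_subset_of_mem_open (show x ∈ ((f ⁻¹ᵁ V : X.Opens) : Set X) from hxV) (f ⁻¹ᵁ V).2
  refine ⟨⟨U, hU⟩, ⟨V, hV⟩, hUV, hxU, ?_⟩
  have h := f.smooth_appLE hV hU hUV
  letI := (f.appLE V U hUV).hom.toAlgebra
  haveI : Algebra.Smooth Γ(Y, V) Γ(X, U) :=
    { formallySmooth := (RingHom.smooth_def.1 h).1, finitePresentation := (RingHom.smooth_def.1 h).2 }
  exact KRegLib.isLCI_of_smooth

variable [∀ (R : CommRingCat.{u}), PreservesFiniteLimits (tilde.functor R)]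

/-- Twisting by a shifted invertible module keeps dualizing complexes. -/
theorem isDualizingSch_ltensor_single [IsLocallyNoetherian X]
    [∀ (U : Scheme.{u}) (j : U ⟶ X) [IsOpenImmersion j], PreservesFiniteLimits (Scheme.Modules.restrictFunctor j)]
    {L : X.Modules} (hL : PicF.IsInvertible L) (k : ℤ)
    [DCoh.HasLTensorCx ((HomologicalComplex.single X.Modules (ComplexShape.up ℤ) k).obj L)]
    {K : DCoh.D X} (hK : Dual2.IsDualizingSch X K) :
    Dual2.IsDualizingSch X
      ((DCoh.LTensorCx ((HomologicalComplex.single X.Modules (ComplexShape.up ℤ) k).obj L)).obj K) := by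
  let S := (HomologicalComplex.single X.Modules (ComplexShape.up ℤ) k).obj L
  obtain ⟨R, hR, ⟨e⟩⟩ := exists_kFlat_rep K
  have h : ∀ x : X, ∃ (B : Type u) (_ : CommRing B) (j : Spec (CommRingCat.of B) ⟶ X) (_ : IsOpenImmersion j),
      x ∈ Set.range j ∧ ∃ ω : Dual.D B, Dual.IsDualizing B ω ∧
        Nonempty ((rho j).obj ((DCoh.LTensorCx S).obj K) ≅ (DCoh.tildeD (CommRingCat.of B)).obj ω) := fun x => by
    obtain ⟨V, hx, ⟨t⟩⟩ := hL x
    obtain ⟨_, ⟨W, hW, rfl⟩, hxW, hWV⟩ := X.isBasis_affineOpens.exists_subset_of_mem_open hx V.2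
    let j : Spec Γ(X, W) ⟶ X := hW.fromSpec
    have hr : Set.range j.base ⊆ Set.range V.ι.base := by
      rw [show Set.range j.base = (W : Set X) from hW.range_fromSpec, Scheme.Opens.range_ι]
      exact hWV
    let g := IsOpenImmersion.lift V.ι j hr
    have hg : g ≫ V.ι = j := IsOpenImmersion.lift_fac _ _ _
    haveI : IsOpenImmersion (g ≫ V.ι) := by rw [hg]; infer_instance
    haveI : IsOpenImmersion g := IsOpenImmersion.of_comp g V.ι
    let tj : L.restrict j ≅ Coh.structureModule (Spec Γ(X, W)) :=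
      (Scheme.Modules.restrictFunctorCongr hg.symm ≪≫ Scheme.Modules.restrictFunctorComp g V.ι).app L ≪≫
        (Scheme.Modules.restrictFunctor g).mapIso t ≪≫ restrictStructureIso g
    obtain ⟨ω, hω, ⟨eω⟩⟩ := hK Γ(X, W) j
    let c := restrictPullCxIso j
    let C := (DCoh.tensorCx.obj R).obj S
    let eS : (rCx j).obj S ≅ ShriekTensor7.unitS (Spec Γ(X, W)) k :=
      (HomologicalComplex.singleMapHomologicalComplex (Scheme.Modules.restrictFunctor j) _ k).app L ≪≫
        (HomologicalComplex.single _ _ k).mapIso tj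
    let eC : (rCx j).obj C ≅ ((rCx j).obj R)⟦(-k : ℤ)⟧ :=
      c.app C ≪≫ (pullTensorCxIso j R S).symm ≪≫
        (DCoh.tensorCx.mapIso (c.app R).symm).app _ ≪≫
        (DCoh.tensorCx.obj ((rCx j).obj R)).mapIso ((c.app S).symm ≪≫ eS) ≪≫
        (ShriekTensor7.e1U (Spec Γ(X, W)) k).app _
    refine ⟨Γ(X, W), inferInstance, j, inferInstance, (Set.ext_iff.1 hW.range_fromSpec x).2 hxW,
      ω⟦(-k : ℤ)⟧, isDualizing_shift hω _, ⟨?_⟩⟩
    exact (rho j).mapIso ((DCoh.LTensorCx S).mapIso e.symm ≪≫ ltensorCxIso S hR) ≪≫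
      (rhoQ j).app C ≪≫ DerivedCategory.Q.mapIso eC ≪≫
      (DerivedCategory.Q.commShiftIso (-k : ℤ)).app _ ≪≫
      (shiftFunctor _ (-k : ℤ)).mapIso (((rhoQ j).app R).symm ≪≫ (rho j).mapIso e ≪≫ eω) ≪≫
      (((DCoh.tildeD (CommRingCat.of Γ(X, W))).commShiftIso (-k : ℤ)).app _).symm
  choose B hB j hj hz hω using h
  exact DualCover7.isDualizingSch_of_cover _ X (fun z => B z) (fun z => j z) (fun z => ⟨z, hz z⟩) hω

variable (n : ℕ) (A : Type u) [CommRing A] [IsNoetherianRing A]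
  [∀ (U : Scheme.{u}) (j : U ⟶ CohB1.ProjSpace n A) [IsOpenImmersion j],
    PreservesFiniteLimits (Scheme.Modules.restrictFunctor j)]
  [∀ (U : Scheme.{u}) (j : U ⟶ Spec (CommRingCat.of A)) [IsOpenImmersion j],
    PreservesFiniteLimits (Scheme.Modules.restrictFunctor j)]

theorem smooth_toSpec : Smooth (CohB1.ProjSpace.toSpec n A) := by
  let Y := Spec (CommRingCat.of A)
  have hpb : IsPullback (ProjX.pmap n (ProjX.zto A)) (CohB1.ProjSpace.toSpec n A)
      (CohB1.ProjSpace.toSpec n (ULift.{u} ℤ)) (specULiftZIsTerminal.from Y) := by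
    rw [specULiftZIsTerminal.hom_ext (specULiftZIsTerminal.from Y)
      (Spec.map (CommRingCat.ofHom (ProjX.zto A)))]
    exact ProjX.isPullback_pmap n (ProjX.zto A)
  rw [← show hpb.isoPullback.hom ≫ CohB1.ProjSpaceOver.toBase n Y = CohB1.ProjSpace.toSpec n A from
    hpb.isoPullback_hom_snd]
  haveI := PnSmooth7.smooth_toBase n Y
  infer_instance

/-- `π^!` keeps dualizing complexes. -/
theorem isDualizingSch_rightAdjoint_Pn [DCoh.HasRpush (CohB1.ProjSpace.toSpec n A)]
    (hp : DCoh.RpushPreservesQCoh (CohB1.ProjSpace.toSpec n A))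
    {a : DCoh.DQCoh (Spec (CommRingCat.of A)) ⥤ DCoh.DQCoh (CohB1.ProjSpace n A)}
    (adj : DCoh.RpushQ (CohB1.ProjSpace.toSpec n A) hp ⊣ a) (K : DCoh.DQCoh (Spec (CommRingCat.of A)))
    (hK : Dual2.IsDualizingSch _ K.obj) : Dual2.IsDualizingSch _ (a.obj K).obj := by
  let π := CohB1.ProjSpace.toSpec n A
  let Y := Spec (CommRingCat.of A)
  haveI : IsNoetherianRing (CommRingCat.of A) := ‹_›
  haveI : IsProper π := PnCoh.Chow.isProper_toSpec n A
  haveI : Flat π := ShriekCoh7.flat_toSpec n A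
  haveI : Smooth π := smooth_toSpec n A
  haveI : LocallyOfFinitePresentation π := ProjGen7.lfp_of_lft π
  haveI : IsLocallyNoetherian (CohB1.ProjSpace n A) := LocallyOfFiniteType.isLocallyNoetherian π
  haveI := KFlatLib.hasLpull π
  let O : DCoh.DQCoh Y := ⟨DCoh.inD Y (Coh.structureModule Y),
    ShriekPn7.isQCohD_inD (PnCoh.isQCoh_structureModule Y)⟩
  obtain ⟨eO⟩ := ShriekPn7.nonempty_rightAdjoint_Pn n A hp adj O ⟨Iso.refl _⟩
  let L := Twist.twistProjSpace n A (-((n : ℤ) + 1))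
  let P := CohB1.ProjSpace n A
  let S := (HomologicalComplex.single P.Modules (ComplexShape.up ℤ) (-(n : ℤ))).obj L
  haveI := KFlatLib.hasLTensorCx S
  let eS : DCoh.toD P S ≅ (a.obj O).obj :=
    ((DerivedCategory.singleFunctorIsoCompQ P.Modules (-(n : ℤ))).app L).symm ≪≫
      (((DerivedCategory.singleFunctors P.Modules).shiftIso (n : ℤ) (-(n : ℤ)) 0 (by omega)).app L).symm ≪≫
      eO.symm
  obtain ⟨e⟩ := Groth.Agent.S3658.result P Y π hp a adj O ⟨Iso.refl _⟩ S ⟨eS⟩
  have hL : Dual2.IsDualizingSch P ((DCoh.Lpull π).obj K.obj) :=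
    Dual3Gor7.isDualizingSch_lpull π (Dual3Gor7.gorMor_of_flat_lci π (isLCIMor_of_smooth π)).2 hK
  have h := isDualizingSch_ltensor_single (PnPic.isInvertible_twistProjSpace n A (-((n : ℤ) + 1))) (-(n : ℤ)) hL
  intro B _ j _
  obtain ⟨ω, hω, ⟨eω⟩⟩ := h B j
  exact ⟨ω, hω, ⟨(rho j).mapIso (e.app K) ≪≫ eω⟩⟩

end Groth.Agent.ShriekDual7
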