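import Groth.Agent.PerfGen7.RelTilde
import Groth.Agent.RHomO7.Adj
import Groth.Agent.QCohEquiv7.Lemmas
import Groth.Agent.S1772
import Groth.Agent.QCoh.Tilde
import Groth.Agent.S3630
import Groth.Prelude.Def_DualSch

/-!
# `i^!` of a dualizing complex for a closed immersion of affine schemes
-/

set_option linter.style.haveILetI false
set_option backward.isDefEq.respectTransparency false
set_option backward.isDefEq.respectTransparency.types false
set_option maxHeartbeats 1000000

universe u

open CategoryTheory CategoryTheory.Limits AlgebraicGeometry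

attribute [local instance] HasDerivedCategory.standard

namespace Groth.Agent.ShriekDual7

open Groth.Agent.KFlatLib Groth.Agent.PerfGen7

section

variable (R : CommRingCat.{u}) [PreservesFiniteLimits (tilde.functor R)]

/-- `tilde` onto `D_QCoh`. -/
noncomputable abbrev tildeDQ : Dual.D R ⥤ DCoh.DQCoh (Spec R) :=
  ObjectProperty.lift _ (DCoh.tildeD R) fun M => isQCohD_tildeD (R := R) M

instance isEquivalence_tildeDQ : (tildeDQ R).IsEquivalence := by
  haveI : (DCoh.tildeD R).Full := ⟨fun {M N} => (tildeD_map_bijective M N).2⟩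
  haveI : (DCoh.tildeD R).Faithful := ⟨fun {M N} => @(tildeD_map_bijective M N).1⟩
  haveI : (tildeDQ R).EssSurj := ⟨fun K => by
    obtain ⟨M, ⟨e⟩⟩ := exists_tildeD_iso K.property
    exact ⟨M, ⟨ObjectProperty.isoMk _ e⟩⟩⟩
  exact {}

end

variable [∀ (R : CommRingCat.{u}), PreservesFiniteLimits (tilde.functor R)]

/-- `a(ω^~)` is the tilde of a dualizing complex. -/
theorem exists_dualizing_tilde {A B : Type u} [CommRing A] [CommRing B] [IsNoetherianRing A]
    [IsNoetherianRing B] (φ : A →+* B) (hφ : Function.Surjective φ)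
    [IsClosedImmersion (Spec.map (CommRingCat.ofHom φ))]
    [DCoh.HasRpush (Spec.map (CommRingCat.ofHom φ))]
    (hi : DCoh.RpushPreservesQCoh (Spec.map (CommRingCat.ofHom φ)))
    {a : DCoh.DQCoh (Spec (CommRingCat.of A)) ⥤ DCoh.DQCoh (Spec (CommRingCat.of B))}
    (adj : DCoh.RpushQ (Spec.map (CommRingCat.ofHom φ)) hi ⊣ a) {ω : Dual.D A}
    (hω : Dual.IsDualizing A ω) :
    ∃ ω' : Dual.D B, Dual.IsDualizing B ω' ∧
      Nonempty ((a.obj ((tildeDQ (CommRingCat.of A)).obj ω)).obj ≅
        (DCoh.tildeD (CommRingCat.of B)).obj ω') := by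
  let g := CommRingCat.ofHom φ
  let i := Spec.map g
  let RS : ModuleCat.{u} (CommRingCat.of B) ⥤ ModuleCat.{u} (CommRingCat.of A) :=
    ModuleCat.restrictScalars.{u} g.hom
  haveI : (tilde.functor (CommRingCat.of A)).Additive := Functor.additive_of_preserves_binary_products _
  haveI : (tilde.functor (CommRingCat.of B)).Additive := Functor.additive_of_preserves_binary_products _
  haveI : RS.Additive := inferInstanceAs ((ModuleCat.restrictScalars.{u} g.hom).Additive)
  haveI hA₁ := QCoh.tilde_preservesFiniteColimits (R := CommRingCat.of A)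
  haveI hB₁ := QCoh.tilde_preservesFiniteColimits (R := CommRingCat.of B)
  haveI : Dual3.HasHomO i := Groth.Agent.S3630.result _ _ i
  obtain ⟨r⟩ := Groth.Agent.RHomO7.nonempty_rpush_pushD (i := i)
  let pf := Scheme.Modules.pushforward i
  haveI : PreservesFiniteLimits (RS ⋙ (tilde.functor (CommRingCat.of A))) := comp_preservesFiniteLimits _ _
  haveI : PreservesFiniteColimits (RS ⋙ (tilde.functor (CommRingCat.of A))) := comp_preservesFiniteColimits _ _
  haveI : (RS ⋙ (tilde.functor (CommRingCat.of A))).Additive := inferInstance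
  let α₀ : DCoh.tildeD (CommRingCat.of B) ⋙ DCoh.Rpush i ≅ DRing.restrictD φ ⋙ DCoh.tildeD (CommRingCat.of A) :=
    Functor.isoWhiskerLeft _ r ≪≫ QCohEquiv7.mapDerivedComp (tilde.functor (CommRingCat.of B)) pf (RS ⋙ (tilde.functor (CommRingCat.of A))) (pushTildeIso g) ≪≫
      (QCohEquiv7.mapDerivedComp RS (tilde.functor (CommRingCat.of A)) (RS ⋙ (tilde.functor (CommRingCat.of A))) (Iso.refl _)).symm
  haveI := isEquivalence_tildeDQ (CommRingCat.of A)
  haveI := isEquivalence_tildeDQ (CommRingCat.of B)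
  let EA := (tildeDQ (CommRingCat.of A)).asEquivalence
  let EB := (tildeDQ (CommRingCat.of B)).asEquivalence
  let α : EB.functor ⋙ DCoh.RpushQ i hi ≅ DRing.restrictD φ ⋙ EA.functor :=
    NatIso.ofComponents (fun M => ObjectProperty.isoMk _ (α₀.app M))
      fun f => ObjectProperty.hom_ext _ (α₀.hom.naturality f)
  let c : (EB.functor ⋙ DCoh.RpushQ i hi) ⋙ EA.inverse ≅ DRing.restrictD φ :=
    Functor.isoWhiskerRight α EA.inverse ≪≫ Functor.associator _ _ _ ≪≫
      Functor.isoWhiskerLeft _ EA.unitIso.symm ≪≫ Functor.rightUnitor _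
  letI := φ.toAlgebra
  haveI : Module.Finite A B := Module.Finite.of_surjective (Algebra.linearMap A B) hφ
  let R : Dual.D A ⥤ Dual.D B := EA.functor ⋙ a ⋙ EB.inverse
  let adj' : DRing.restrictD (algebraMap A B) ⊣ R :=
    ((EB.toAdjunction.comp adj).comp EA.symm.toAdjunction).ofNatIsoLeft c
  exact ⟨R.obj ω, Groth.Agent.S1772.result A B R adj' ω hω,
    ⟨(ObjectProperty.ι _).mapIso (EB.counitIso.app (a.obj (EA.functor.obj ω))).symm⟩⟩

end Groth.Agent.ShriekDual7
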